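import Groth.Agent.Lib.WLocal.Pull
import Groth.Agent.Lib.WLocal.Localization

/-!
# Algebras identifying local rings with w-local spectrum are ind-Zariski
-/

set_option autoImplicit false

universe u

open PrimeSpectrum

namespace GrothLib.IndZar18

open GrothLib GrothLib.WLocal

/-- A w-local map identifying local rings between w-local rings is a limit of products of principal
localizations. -/
theorem isIndZariski_of_identifies' {R A B : Type u} [CommRing R] [CommRing A] [CommRing B]
    [Algebra A B] [Algebra R A] [Algebra R B] [IsScalarTower R A B] (hR : EtPBC.IsIndZariski R A)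
    (h1 : EtPBC.IdentifiesLocalRings A B) (hA : ProEtW.IsWLocal (PrimeSpectrum A))
    (hB : ProEtW.IsWLocal (PrimeSpectrum B)) (h4 : ProEtW.IsWLocalMap (comap (algebraMap A B))) :
    EtPBC.IsIndZariski R B := by
  haveI := hA.1
  haveI := hB.1
  let g : C(ConnectedComponents (PrimeSpectrum B), ConnectedComponents (PrimeSpectrum A)) :=
    ⟨_, (continuous_comap (algebraMap A B)).connectedComponentsMap_continuous⟩
  let ν : C(ProEtW.closedPoints (PrimeSpectrum B), ConnectedComponents (PrimeSpectrum B)) :=
    ⟨fun x => ConnectedComponents.mk x.1, ConnectedComponents.continuous_coe.comp continuous_subtype_val⟩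
  have hν : ∀ x : ProEtW.closedPoints (PrimeSpectrum B),
      ConnectedComponents.mk (comap (algebraMap A B) x.1) = g (ν x) := fun x => rfl
  let φ := pullMap g hB ν hν
  letI := φ.toRingHom.toAlgebra
  haveI : IsScalarTower A (PullRing g) B := IsScalarTower.of_algebraMap_eq fun a => (φ.commutes a).symm
  have hclosed : ∀ x ∈ ProEtW.closedPoints (PrimeSpectrum B),
      comap (algebraMap (PullRing g) B) x ∈ ProEtW.closedPoints (PrimeSpectrum (PullRing g)) := fun x hx => by
    rw [mem_closedPoints_pullRing g hA, ← pullHomeo_fst]
    show (pullHomeo g (comap φ.toRingHom x)).1.1 ∈ _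
    rw [pullHomeo_pullMap g hB ν hν hx]
    exact h4.2 x hx
  obtain ⟨e, he⟩ := exists_components_pullRing g
  have key : ∀ x ∈ ProEtW.closedPoints (PrimeSpectrum B),
      e ((continuous_comap (algebraMap (PullRing g) B)).connectedComponentsMap (ConnectedComponents.mk x)) =
        ConnectedComponents.mk x := fun x hx => by
    refine (he _).trans ?_
    exact congrArg Prod.snd (pullHomeo_pullMap g hB ν hν hx)
  have hall : ∀ c : ConnectedComponents (PrimeSpectrum B),
      e ((continuous_comap (algebraMap (PullRing g) B)).connectedComponentsMap c) = c := fun c => by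
    obtain ⟨x, rfl⟩ := ConnectedComponents.surjective_coe c
    obtain ⟨m, ⟨hm, hxm⟩, -⟩ := hB.2.2 x
    rw [show ConnectedComponents.mk x = ConnectedComponents.mk m from (mk_eq_of_specializes hxm).symm]
    exact key m hm
  have hbij : Function.Bijective (algebraMap (PullRing g) B) := by
    refine bijective_of_identifies (IndEt.identifiesLocalRings_of_comp
      (IndEt.identifiesLocalRings_of_isIndZariski (isIndZariski_pullRing g)) h1) (isWLocal_pullRing g hA) hB
      ⟨isSpectralMap_comap _, hclosed⟩ ⟨fun c c' h => ?_, fun c => ⟨e c, e.injective (hall _)⟩⟩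
    have h' := congrArg e h
    rwa [hall, hall] at h'
  haveI : IsScalarTower R A (LC A (ConnectedComponents (PrimeSpectrum B))) :=
    ⟨fun a x f => LocallyConstant.ext fun t => smul_assoc a x (f t)⟩
  haveI : IsScalarTower R A (PullRing g) := IsScalarTower.of_algebraMap_eq fun x => by
    rw [IsScalarTower.algebraMap_apply R (LC A (ConnectedComponents (PrimeSpectrum B))) (PullRing g) x,
      IsScalarTower.algebraMap_apply R A (LC A (ConnectedComponents (PrimeSpectrum B))) x,
      ← IsScalarTower.algebraMap_apply A (LC A (ConnectedComponents (PrimeSpectrum B))) (PullRing g)]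
  exact isIndZariski_of_algEquiv ((AlgEquiv.ofBijective φ hbij).restrictScalars R)
    (IndEt.isIndZariski_trans (IndEt.isIndZariski_trans hR (isIndLoc A _)) (isIndLoc_pullRing g))

/-- Identifying local rings is transitive. -/
theorem identifiesLocalRings_trans {A B C : Type u} [CommRing A] [CommRing B] [CommRing C]
    [Algebra A B] [Algebra A C] [Algebra B C] [IsScalarTower A B C]
    (hB : EtPBC.IdentifiesLocalRings A B) (hC : EtPBC.IdentifiesLocalRings B C) :
    EtPBC.IdentifiesLocalRings A C := by
  intro q
  let r := q.asIdeal.comap (algebraMap B C)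
  have hqp : q.asIdeal.comap (algebraMap A C) = r.comap (algebraMap A B) := by
    rw [Ideal.comap_comap, ← IsScalarTower.algebraMap_eq]
  have h1 := hB ⟨r, Ideal.IsPrime.comap _⟩
  have h2 := hC q
  have heq : (Localization.localRingHom r q.asIdeal (algebraMap B C) rfl).comp
      (Localization.localRingHom (r.comap (algebraMap A B)) r (algebraMap A B) rfl) =
      Localization.localRingHom (r.comap (algebraMap A B)) q.asIdeal (algebraMap A C) hqp.symm := by
    rw [← Localization.localRingHom_comp]
    congr 1
    exact (IsScalarTower.algebraMap_eq A B C).symm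
  have aux : ∀ (p₁ p₂ : Ideal A) [p₁.IsPrime] [p₂.IsPrime] (e₁ : p₁ = q.asIdeal.comap (algebraMap A C))
      (e₂ : p₂ = q.asIdeal.comap (algebraMap A C)),
      Function.Bijective (Localization.localRingHom p₁ q.asIdeal (algebraMap A C) e₁) →
      Function.Bijective (Localization.localRingHom p₂ q.asIdeal (algebraMap A C) e₂) := by
    intro p₁ p₂ _ _ e₁ e₂ h
    subst e₁
    subst e₂
    exact h
  refine aux _ _ hqp.symm rfl ?_
  rw [← heq, RingHom.coe_comp]
  exact h2.comp h1

/-- An algebra identifying local rings with w-local spectrum is ind-Zariski. -/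
theorem isIndZariski_of_isWLocal {A B : Type u} [CommRing A] [CommRing B] [Algebra A B]
    (h : EtPBC.IdentifiesLocalRings A B) (hB : ProEtW.IsWLocal (PrimeSpectrum B)) :
    EtPBC.IsIndZariski A B := by
  obtain ⟨φ, hφ, -⟩ := existsUnique_wLocalMap (A := A) hB
  letI := φ.toRingHom.toAlgebra
  haveI : IsScalarTower A (WLoc A) B := .of_algHom φ
  exact isIndZariski_of_identifies' (A := WLoc A) (isIndZariski_wLoc A)
    (IndEt.identifiesLocalRings_of_comp
      (IndEt.identifiesLocalRings_of_isIndZariski (isIndZariski_wLoc A)) h) (isWLocal_wLoc A) hB hφ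

/-- A ring identifying local rings over `A` becomes ind-Zariski over `A` after a faithfully flat
ind-Zariski extension. -/
theorem exists_cover {A B : Type u} [CommRing A] [CommRing B] [Algebra A B]
    (h : EtPBC.IdentifiesLocalRings A B) :
    ∃ (B' : Type u) (_ : CommRing B') (_ : Algebra B B') (_ : Algebra A B') (_ : IsScalarTower A B B'),
      Module.FaithfullyFlat B B' ∧ EtPBC.IsIndZariski B B' ∧ EtPBC.IsIndZariski A B' := by
  haveI : IsScalarTower A B (LC B (Cons B)) := ⟨fun a x f => LocallyConstant.ext fun t => smul_assoc a x (f t)⟩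
  haveI : IsScalarTower A B (WLoc B) := IsScalarTower.of_algebraMap_eq (A := WLoc B) (S := B) fun x => by
    rw [IsScalarTower.algebraMap_apply A (LC B (Cons B)) (WLoc B) x,
      IsScalarTower.algebraMap_apply A B (LC B (Cons B)) x,
      ← IsScalarTower.algebraMap_apply B (LC B (Cons B)) (WLoc B)]
    try rfl
  refine ⟨WLoc B, inferInstance, inferInstance, inferInstance, inferInstance,
    faithfullyFlat_wLoc B, isIndZariski_wLoc B, ?_⟩
  exact isIndZariski_of_isWLocal (identifiesLocalRings_trans h
    (IndEt.identifiesLocalRings_of_isIndZariski (isIndZariski_wLoc B))) (isWLocal_wLoc B)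

end GrothLib.IndZar18
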